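import Groth.Agent.Lib.Helper2.TExact.BoundedBelowIso

/-!
# Dévissage for properties of objects of `D(A)`

A property of objects of `D(A)` closed under isomorphisms, shifts, containing the zero objects and
satisfying 2-out-of-3 (`obj₁`, `obj₃` ⟹ `obj₂`) holds for a bounded object as soon as it holds
for its cohomology objects placed in degree `0`.
-/

namespace Groth.Agent.Lib.Helper2.TExactIso

open CategoryTheory Limits Pretriangulated DerivedCategory

universe w v u

variable {A : Type u} [Category.{v} A] [Abelian A] [HasDerivedCategory.{w} A]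

/-- The closure properties used in the dévissage. -/
structure IsDevissable (P : ObjectProperty (DerivedCategory A)) : Prop where
  of_iso : ∀ {X Y : DerivedCategory A}, (X ≅ Y) → P X → P Y
  of_isZero : ∀ {X : DerivedCategory A}, IsZero X → P X
  shift : ∀ (X : DerivedCategory A) (n : ℤ), P X → P (X⟦n⟧)
  ext₂ : ∀ (T : Triangle (DerivedCategory A)), T ∈ distTriang _ → P T.obj₁ → P T.obj₃ → P T.obj₂

open Groth.Agent.Lib.Helper1.PCohDev in
lemma IsDevissable.of_bounded {P : ObjectProperty (DerivedCategory A)} (hP : IsDevissable P)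
    (a : ℤ) : ∀ (k : ℕ) (F : DerivedCategory A), F.IsGE a →
    (∀ i, a - 1 + k < i → IsZero ((homologyFunctor A i).obj F)) →
    (∀ q, P ((singleFunctor A 0).obj ((homologyFunctor A q).obj F))) → P F := by
  intro k
  induction k with
  | zero =>
    intro F hF hF' _
    have hLE : F.IsLE (a - 1) := (isLE_iff F (a - 1)).2 (fun i hi => hF' i (by simpa using hi))
    exact hP.of_isZero (TStructure.t.isZero F (a - 1) a (by omega))
  | succ k ih =>
    intro F hF hF' hH
    obtain ⟨T, hT, Y, ⟨e₂⟩, ⟨e₃⟩, ⟨eY⟩, h₁, h₁'⟩ := exists_trunc_triangle F (a + k)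
      (fun i hi => hF' i (by push_cast; omega))
    have hn₃ : P T.obj₃ := by
      have h1 := hH (a + k)
      have h2 : P ((singleFunctor A 0).obj Y) :=
        hP.of_iso ((singleFunctor A 0).mapIso eY.symm) h1
      have h3 := hP.shift _ (-(a + k)) h2
      have h4 := hP.of_iso
        (((singleFunctors A).shiftIso (-(a + k)) (a + k) 0 (by omega)).app Y) h3
      exact hP.of_iso e₃.symm h4
    have hn₁ : P T.obj₁ := by
      apply ih
      · rw [isGE_iff]
        intro i hi
        obtain ⟨e⟩ := h₁' i (by omega)
        exact (F.isZero_of_isGE a i hi).of_iso e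
      · intro i hi
        exact h₁ i (by omega)
      · intro q
        by_cases hq : q < a + k
        · obtain ⟨e⟩ := h₁' q hq
          exact hP.of_iso ((singleFunctor A 0).mapIso e.symm) (hH q)
        · exact hP.of_isZero ((singleFunctor A 0).map_isZero (h₁ q (by omega)))
    exact hP.of_iso e₂ (hP.ext₂ T hT hn₁ hn₃)

/-- Bounded objects: `F ∈ D^{[a,b]}`. -/
lemma IsDevissable.of_isGE_of_isLE {P : ObjectProperty (DerivedCategory A)} (hP : IsDevissable P)
    (F : DerivedCategory A) (a b : ℤ) (hGE : F.IsGE a) (hLE : F.IsLE b)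
    (h : ∀ q, P ((singleFunctor A 0).obj ((homologyFunctor A q).obj F))) : P F := by
  obtain ⟨k, hk⟩ : ∃ k : ℕ, b ≤ a - 1 + k := ⟨(b - a + 1).toNat, by omega⟩
  exact hP.of_bounded a k F hGE (fun i hi => F.isZero_of_isLE b i (by omega)) h

/-- The truncation `τ≤q X` of a bounded below object satisfies `P` as soon as the `H^i(X)[0]` do. -/
lemma IsDevissable.truncLE {P : ObjectProperty (DerivedCategory A)} (hP : IsDevissable P)
    (X : DerivedCategory A) (n₀ : ℤ) (hX : X.IsGE n₀)
    (h : ∀ q, P ((singleFunctor A 0).obj ((homologyFunctor A q).obj X))) (q : ℤ) :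
    P ((TStructure.t.truncLE q).obj X) := by
  let T := (TStructure.t.triangleLEGT q).obj X
  have hT : T ∈ distTriang _ := TStructure.t.triangleLEGT_distinguished q X
  have h₃ : T.obj₃.IsGE (q + 1) := by
    change TStructure.t.IsGE ((TStructure.t.truncGT q).obj X) (q + 1)
    infer_instance
  have hι : ∀ i, i < q + 1 → IsIso ((homologyFunctor A i).map T.mor₁) :=
    fun i hi => isIso_homologyMap_mor₁ T hT (q + 1) h₃ i hi
  have hGE : T.obj₁.IsGE n₀ := by
    change TStructure.t.IsGE ((TStructure.t.truncLE q).obj X) n₀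
    infer_instance
  have hLE : T.obj₁.IsLE q := by
    change TStructure.t.IsLE ((TStructure.t.truncLE q).obj X) q
    infer_instance
  refine hP.of_isGE_of_isLE T.obj₁ n₀ q hGE hLE ?_
  intro i
  by_cases hi : i < q + 1
  · have := hι i hi
    exact hP.of_iso
      ((singleFunctor A 0).mapIso (asIso ((homologyFunctor A i).map T.mor₁)).symm) (h i)
  · exact hP.of_isZero
      ((singleFunctor A 0).map_isZero (T.obj₁.isZero_of_isLE q i (by omega)))

/-- For a triangulated left t-exact `G`, `H^q(G τ≤q X) → H^q(G X)` is an isomorphism. -/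
lemma isIso_homologyMap_map_truncLEι {B : Type*} [Category B] [Abelian B] [HasDerivedCategory B]
    (G : DerivedCategory A ⥤ DerivedCategory B) [G.CommShift ℤ] [G.IsTriangulated]
    (hG : ∀ (X : DerivedCategory A) (n : ℤ), X.IsGE n → (G.obj X).IsGE n)
    (X : DerivedCategory A) (q : ℤ) :
    IsIso ((homologyFunctor B q).map (G.map ((TStructure.t.truncLEι q).app X))) := by
  let T := (TStructure.t.triangleLEGT q).obj X
  have hT : T ∈ distTriang _ := TStructure.t.triangleLEGT_distinguished q X
  have h₃ : T.obj₃.IsGE (q + 1) := by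
    change TStructure.t.IsGE ((TStructure.t.truncGT q).obj X) (q + 1)
    infer_instance
  have := isIso_homologyMap_mor₁ (G.mapTriangle.obj T) (G.map_distinguished T hT) (q + 1)
    (hG _ _ h₃) q (by omega)
  exact this

end Groth.Agent.Lib.Helper2.TExactIso
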