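import Groth.Agent.Lib.Helper2.TExact.AdjUnitCounit
import Groth.Agent.Lib.Helper2.TExact.Devissage
import Groth.Prelude.Def_WeakSerre

/-!
# `f^* ⊣ Rf_*` restricted to bounded below objects with cohomology in weak Serre subcategories
-/

namespace Groth.Agent.Lib.Helper2.TExactIso

open CategoryTheory Limits Pretriangulated DerivedCategory

universe w₁ w₂ v₁ v₂ u₁ u₂

section Five

variable {C : Type u₁} [Category.{v₁} C] [Abelian C]

/-- The middle term of an exact five term sequence whose outer terms lie in a weak Serre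
subcategory lies in it. -/
lemma prop_of_exact_five (P : ObjectProperty C) [WSerre.IsWeakSerre P]
    {M₁ M₂ M₃ M₄ M₅ : C} (f₁ : M₁ ⟶ M₂) (f₂ : M₂ ⟶ M₃) (f₃ : M₃ ⟶ M₄) (f₄ : M₄ ⟶ M₅)
    (w₁ : f₁ ≫ f₂ = 0) (w₂ : f₂ ≫ f₃ = 0) (w₃ : f₃ ≫ f₄ = 0)
    (e₁ : (ShortComplex.mk f₁ f₂ w₁).Exact) (e₂ : (ShortComplex.mk f₂ f₃ w₂).Exact)
    (e₃ : (ShortComplex.mk f₃ f₄ w₃).Exact)
    (h₁ : P M₁) (h₂ : P M₂) (h₄ : P M₄) (h₅ : P M₅) : P M₃ := by
  have hc : P (cokernel f₁) := P.prop_cokernel f₁ h₁ h₂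
  have hk : P (kernel f₄) := P.prop_kernel f₄ h₄ h₅
  let i : cokernel f₁ ⟶ M₃ := cokernel.desc f₁ f₂ w₁
  let p : M₃ ⟶ kernel f₄ := kernel.lift f₄ f₃ w₃
  have hi : Mono i := e₁.mono_cokernelDesc
  have hp : Epi p := e₃.epi_kernelLift
  have w : i ≫ p = 0 := by
    rw [← cancel_epi (cokernel.π f₁), ← cancel_mono (kernel.ι f₄)]
    simp [i, p, w₂]
  -- intermediate complex
  have w' : i ≫ f₃ = 0 := by
    rw [← cancel_epi (cokernel.π f₁)]
    simp [i, w₂]
  have e' : (ShortComplex.mk i f₃ w').Exact := by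
    let φ : ShortComplex.mk f₂ f₃ w₂ ⟶ ShortComplex.mk i f₃ w' :=
      { τ₁ := cokernel.π f₁
        τ₂ := 𝟙 _
        τ₃ := 𝟙 _
        comm₁₂ := by simp [i]
        comm₂₃ := by simp }
    haveI : Epi φ.τ₁ := by dsimp [φ]; infer_instance
    haveI : IsIso φ.τ₂ := by dsimp [φ]; infer_instance
    haveI : Mono φ.τ₃ := by dsimp [φ]; infer_instance
    exact (ShortComplex.exact_iff_of_epi_of_isIso_of_mono φ).1 e₂
  have e'' : (ShortComplex.mk i p w).Exact := by
    let φ : ShortComplex.mk i p w ⟶ ShortComplex.mk i f₃ w' :=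
      { τ₁ := 𝟙 _
        τ₂ := 𝟙 _
        τ₃ := kernel.ι f₄
        comm₁₂ := by simp
        comm₂₃ := by simp [p] }
    haveI : Epi φ.τ₁ := by dsimp [φ]; infer_instance
    haveI : IsIso φ.τ₂ := by dsimp [φ]; infer_instance
    haveI : Mono φ.τ₃ := by dsimp [φ]; infer_instance
    exact (ShortComplex.exact_iff_of_epi_of_isIso_of_mono φ).2 e'
  have hS : (ShortComplex.mk i p w).ShortExact := ShortComplex.ShortExact.mk' e'' hi hp
  exact P.prop_X₂_of_shortExact hS hc hk

end Five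

section Homology

variable {A : Type u₁} [Category.{v₁} A] [Abelian A] [HasDerivedCategory.{w₁} A]
  {B : Type u₂} [Category.{v₂} B] [Abelian B] [HasDerivedCategory.{w₂} B]

/-- `H^q(X[n]) ≅ H^{n+q}(X)`. -/
noncomputable def homologyShiftIso (X : DerivedCategory A) (n q : ℤ) :
    (homologyFunctor A q).obj (X⟦n⟧) ≅ (homologyFunctor A (n + q)).obj X :=
  ((homologyFunctor A 0).shiftIso n q (n + q) rfl).app X

variable (Φ : B ⥤ A) [Φ.Additive] [PreservesFiniteLimits Φ] [PreservesFiniteColimits Φ]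

/-- `H^q(Φ K) ≅ Φ (H^q K)` for an exact functor `Φ`, on complexes. -/
noncomputable def mapHomologicalComplexHomologyIso (K : CochainComplex B ℤ) (q : ℤ) :
    ((Φ.mapHomologicalComplex (ComplexShape.up ℤ)).obj K).homology q ≅ Φ.obj (K.homology q) :=
  (K.sc q).mapHomologyIso Φ

/-- `H^q(Φ Y) ≅ Φ (H^q Y)` for an exact functor `Φ`, on the derived category. -/
noncomputable def mapDerivedCategoryHomologyIso (Y : DerivedCategory B) (q : ℤ) :
    (homologyFunctor A q).obj (Φ.mapDerivedCategory.obj Y) ≅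
      Φ.obj ((homologyFunctor B q).obj Y) :=
  (homologyFunctor A q).mapIso (Φ.mapDerivedCategory.mapIso (Q.objObjPreimageIso Y).symm ≪≫
      Φ.mapDerivedCategoryFactors.app (Q.objPreimage Y)) ≪≫
    (homologyFunctorFactors A q).app _ ≪≫
    mapHomologicalComplexHomologyIso Φ (Q.objPreimage Y) q ≪≫
    Φ.mapIso ((homologyFunctorFactors B q).app (Q.objPreimage Y)).symm ≪≫
    Φ.mapIso ((homologyFunctor B q).mapIso (Q.objObjPreimageIso Y))

end Homology

section Dev

variable {A : Type u₁} [Category.{v₁} A] [Abelian A] [HasDerivedCategory.{w₁} A]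
  {B : Type u₂} [Category.{v₂} B] [Abelian B] [HasDerivedCategory.{w₂} B]
  (R : DerivedCategory A ⥤ DerivedCategory B) [R.CommShift ℤ] [R.IsTriangulated]
  (P' : ObjectProperty B) [WSerre.IsWeakSerre P']

/-- The objects `Z` with all `H^q(R Z)` in a weak Serre subcategory form a dévissable class. -/
lemma isDevissable_cohIn_map :
    IsDevissable (fun Z : DerivedCategory A => ∀ q : ℤ, P' ((homologyFunctor B q).obj (R.obj Z))) where
  of_iso e h q := P'.prop_of_iso ((homologyFunctor B q).mapIso (R.mapIso e)) (h q)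
  of_isZero hX q := P'.prop_of_isZero ((homologyFunctor B q).map_isZero (R.map_isZero hX))
  shift X n h q :=
    P'.prop_of_iso ((homologyFunctor B q).mapIso ((R.commShiftIso n).app X) ≪≫
      homologyShiftIso (R.obj X) n q).symm (h (n + q))
  ext₂ T hT h₁ h₃ q := by
    have hT' := R.map_distinguished T hT
    have ex₁ := HomologySequence.exact₁ _ hT' (q - 1) q (by omega)
    have ex₂ := HomologySequence.exact₂ _ hT' q
    have ex₃ := HomologySequence.exact₃ _ hT' q (q + 1) rfl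
    exact prop_of_exact_five P' _ _ _ _ _ _ _ ex₁ ex₂ ex₃ (h₃ (q - 1)) (h₁ q) (h₃ q) (h₁ (q + 1))

end Dev

end Groth.Agent.Lib.Helper2.TExactIso
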