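import Groth.Agent.Lib.Helper2.TExact.BoundedBelowIso

/-!
# Unit and counit of `Φ.mapDerivedCategory ⊣ R` on bounded below objects

`Φ : B ⥤ A` exact; `R : D(A) ⥤ D(B)` any right adjoint of `Φ.mapDerivedCategory`.  The counit
(resp. unit) is an isomorphism at a bounded below object as soon as it is on all its cohomology
objects placed in degree `0`.
-/

namespace Groth.Agent.Lib.Helper2.TExactIso

open CategoryTheory Limits Pretriangulated DerivedCategory

universe w₁ w₂ v₁ v₂ u₁ u₂

variable {A : Type u₁} [Category.{v₁} A] [Abelian A] [HasDerivedCategory.{w₁} A]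
  {B : Type u₂} [Category.{v₂} B] [Abelian B] [HasDerivedCategory.{w₂} B]
  (Φ : B ⥤ A) [Φ.Additive] [PreservesFiniteLimits Φ] [PreservesFiniteColimits Φ]

lemma isGE_mapDerivedCategory_obj (Y : DerivedCategory B) (n : ℤ) (hY : Y.IsGE n) :
    (Φ.mapDerivedCategory.obj Y).IsGE n := by
  obtain ⟨K, hK, ⟨e⟩⟩ := Y.exists_iso_Q_obj_of_isGE n
  haveI : (Q.obj ((Φ.mapHomologicalComplex (ComplexShape.up ℤ)).obj K)).IsGE n := inferInstance
  exact TStructure.t.isGE_of_iso (X := Q.obj ((Φ.mapHomologicalComplex (ComplexShape.up ℤ)).obj K))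
    ((Φ.mapDerivedCategory.mapIso e ≪≫ (Φ.mapDerivedCategoryFactors.app K)).symm) n

lemma isLE_mapDerivedCategory_obj (Y : DerivedCategory B) (n : ℤ) (hY : Y.IsLE n) :
    (Φ.mapDerivedCategory.obj Y).IsLE n := by
  obtain ⟨K, hK, ⟨e⟩⟩ := Y.exists_iso_Q_obj_of_isLE n
  haveI : (Q.obj ((Φ.mapHomologicalComplex (ComplexShape.up ℤ)).obj K)).IsLE n := inferInstance
  exact TStructure.t.isLE_of_iso (X := Q.obj ((Φ.mapHomologicalComplex (ComplexShape.up ℤ)).obj K))
    ((Φ.mapDerivedCategory.mapIso e ≪≫ (Φ.mapDerivedCategoryFactors.app K)).symm) n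

variable {Φ} {R : DerivedCategory A ⥤ DerivedCategory B} (adj : Φ.mapDerivedCategory ⊣ R)

include adj in
lemma isGE_rightAdjoint_obj (X : DerivedCategory A) (n : ℤ) (hX : X.IsGE n) :
    (R.obj X).IsGE n := by
  haveI := adj.right_adjoint_additive
  refine (TStructure.t.isGE_iff_orthogonal (n - 1) n (by omega) _).2 ?_
  intro Y f hY
  have hLE : (Φ.mapDerivedCategory.obj Y).IsLE (n - 1) := isLE_mapDerivedCategory_obj Φ Y (n - 1) hY
  have h0 : (adj.homEquiv Y X).symm f = 0 :=
    TStructure.t.zero ((adj.homEquiv Y X).symm f) (n - 1) n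
  have : f = adj.homEquiv Y X ((adj.homEquiv Y X).symm f) := by simp
  rw [this, h0, Adjunction.homEquiv_unit, Functor.map_zero, comp_zero]

theorem isIso_counit_app_of_isGE (X : DerivedCategory A) (n₀ : ℤ) (hX : X.IsGE n₀)
    (h : ∀ q, IsIso (adj.counit.app ((singleFunctor A 0).obj ((homologyFunctor A q).obj X)))) :
    IsIso (adj.counit.app X) := by
  letI := adj.rightAdjointCommShift ℤ
  haveI := adj.commShift_of_leftAdjoint ℤ
  haveI : R.IsTriangulated := adj.isTriangulated_rightAdjoint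
  exact isIso_app_of_isGE adj.counit
    (fun X n hX => isGE_mapDerivedCategory_obj Φ _ n (isGE_rightAdjoint_obj adj X n hX))
    leftTExact_id X n₀ hX h

theorem isIso_unit_app_of_isGE (Y : DerivedCategory B) (n₀ : ℤ) (hY : Y.IsGE n₀)
    (h : ∀ q, IsIso (adj.unit.app ((singleFunctor B 0).obj ((homologyFunctor B q).obj Y)))) :
    IsIso (adj.unit.app Y) := by
  letI := adj.rightAdjointCommShift ℤ
  haveI := adj.commShift_of_leftAdjoint ℤ
  haveI : R.IsTriangulated := adj.isTriangulated_rightAdjoint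
  exact isIso_app_of_isGE adj.unit leftTExact_id
    (fun Y n hY => isGE_rightAdjoint_obj adj _ n (isGE_mapDerivedCategory_obj Φ Y n hY))
    Y n₀ hY h

end Groth.Agent.Lib.Helper2.TExactIso
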