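import Mathlib
import Groth.Agent.Lib.Helper1.PCohObj

/-!
# Natural transformations of left t-exact triangulated endofunctors of `D(A)`

If `τ : G₁ ⟶ G₂` is a natural transformation (compatible with shifts) between triangulated
endofunctors of `D(A)` which both preserve `D^{≥ n}` for all `n`, `X` is bounded below, and `τ` is an
isomorphism on all `H^q(X)[0]`, then `τ` is an isomorphism at `X`.
-/

namespace Groth.Agent.Lib.Helper2.TExactIso

open CategoryTheory Limits Pretriangulated DerivedCategory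

universe w v u

variable {A : Type u} [Category.{v} A] [Abelian A] [HasDerivedCategory.{w} A]
variable {G₁ G₂ : DerivedCategory A ⥤ DerivedCategory A} (τ : G₁ ⟶ G₂)

lemma isIso_of_square {C : Type*} [Category C] {W X Y Z : C} (a : W ⟶ X) (b : X ⟶ Z)
    (c : W ⟶ Y) (d : Y ⟶ Z) (h : a ≫ b = c ≫ d) [IsIso a] [IsIso c] [IsIso d] : IsIso b := by
  have : b = inv a ≫ c ≫ d := by rw [← h, IsIso.inv_hom_id_assoc]
  rw [this]; infer_instance

lemma isIso_app_of_iso {X Y : DerivedCategory A} (e : X ≅ Y) (h : IsIso (τ.app X)) :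
    IsIso (τ.app Y) := by
  have : τ.app Y = G₁.map e.inv ≫ τ.app X ≫ G₂.map e.hom := by
    rw [← τ.naturality, ← G₁.map_comp_assoc, e.inv_hom_id, G₁.map_id, Category.id_comp]
  rw [this]; infer_instance

lemma isIso_app_of_isZero [G₁.PreservesZeroMorphisms] [G₂.PreservesZeroMorphisms]
    {X : DerivedCategory A} (hX : IsZero X) : IsIso (τ.app X) :=
  ⟨0, (G₁.map_isZero hX).eq_of_src _ _, (G₂.map_isZero hX).eq_of_src _ _⟩

section Shift

variable [G₁.CommShift ℤ] [G₂.CommShift ℤ] [NatTrans.CommShift τ ℤ]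

lemma isIso_app_shift (X : DerivedCategory A) (n : ℤ) (h : IsIso (τ.app X)) :
    IsIso (τ.app (X⟦n⟧)) := by
  rw [NatTrans.app_shift τ n X]; infer_instance

variable [G₁.IsTriangulated] [G₂.IsTriangulated]

set_option backward.defeqAttrib.useBackward true in
set_option backward.isDefEq.respectTransparency false in
lemma isIso_app_obj₂ (T : Triangle (DerivedCategory A)) (hT : T ∈ distTriang _)
    (h₁ : IsIso (τ.app T.obj₁)) (h₃ : IsIso (τ.app T.obj₃)) : IsIso (τ.app T.obj₂) := by
  let φ : G₁.mapTriangle.obj T ⟶ G₂.mapTriangle.obj T :=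
    { hom₁ := τ.app _
      hom₂ := τ.app _
      hom₃ := τ.app _
      comm₁ := by simp
      comm₂ := by simp
      comm₃ := by
        dsimp
        rw [Category.assoc, NatTrans.shift_app_comm τ (1 : ℤ) T.obj₁, τ.naturality_assoc] }
  exact isIso₂_of_isIso₁₃ φ (G₁.map_distinguished T hT) (G₂.map_distinguished T hT) h₁ h₃

end Shift

/-- `G` preserves `D^{≥ n}` for all `n`. -/
def LeftTExact (G : DerivedCategory A ⥤ DerivedCategory A) : Prop :=
  ∀ (X : DerivedCategory A) (n : ℤ), X.IsGE n → (G.obj X).IsGE n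

lemma leftTExact_id : LeftTExact (𝟭 (DerivedCategory A)) := fun _ _ h => h

lemma isIso_homologyMap_mor₁ (T : Triangle (DerivedCategory A)) (hT : T ∈ distTriang _) (m : ℤ)
    (h₃ : T.obj₃.IsGE m) (q : ℤ) (hq : q < m) : IsIso ((homologyFunctor A q).map T.mor₁) := by
  have hmono : Mono ((homologyFunctor A q).map T.mor₁) := by
    rw [HomologySequence.mono_homologyMap_mor₁_iff T hT (q - 1) q (by omega)]
    exact (T.obj₃.isZero_of_isGE m (q - 1) (by omega)).eq_of_src _ _
  have hepi : Epi ((homologyFunctor A q).map T.mor₁) := by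
    rw [HomologySequence.epi_homologyMap_mor₁_iff T hT q]
    exact (T.obj₃.isZero_of_isGE m q hq).eq_of_tgt _ _
  exact isIso_of_mono_of_epi _

section Main

variable [G₁.CommShift ℤ] [G₂.CommShift ℤ] [NatTrans.CommShift τ ℤ]
  [G₁.IsTriangulated] [G₂.IsTriangulated]

open Groth.Agent.Lib.Helper1.PCohDev in
lemma isIso_app_of_bounded (a : ℤ) : ∀ (k : ℕ) (F : DerivedCategory A), F.IsGE a →
    (∀ i, a - 1 + k < i → IsZero ((homologyFunctor A i).obj F)) →
    (∀ q, IsIso (τ.app ((singleFunctor A 0).obj ((homologyFunctor A q).obj F)))) →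
    IsIso (τ.app F) := by
  intro k
  induction k with
  | zero =>
    intro F hF hF' _
    have hLE : F.IsLE (a - 1) := (isLE_iff F (a - 1)).2 (fun i hi => hF' i (by simpa using hi))
    exact isIso_app_of_isZero τ (TStructure.t.isZero F (a - 1) a (by omega))
  | succ k ih =>
    intro F hF hF' hH
    obtain ⟨T, hT, Y, ⟨e₂⟩, ⟨e₃⟩, ⟨eY⟩, h₁, h₁'⟩ := exists_trunc_triangle F (a + k)
      (fun i hi => hF' i (by push_cast; omega))
    have hn₃ : IsIso (τ.app T.obj₃) := by
      have h1 := hH (a + k)
      have h2 : IsIso (τ.app ((singleFunctor A 0).obj Y)) :=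
        isIso_app_of_iso τ ((singleFunctor A 0).mapIso eY.symm) h1
      have h3 := isIso_app_shift τ _ (-(a + k)) h2
      have h4 := isIso_app_of_iso τ
        (((singleFunctors A).shiftIso (-(a + k)) (a + k) 0 (by omega)).app Y) h3
      exact isIso_app_of_iso τ e₃.symm h4
    have hn₁ : IsIso (τ.app T.obj₁) := by
      apply ih
      · rw [isGE_iff]
        intro i hi
        obtain ⟨e⟩ := h₁' i (by omega)
        exact (F.isZero_of_isGE a i hi).of_iso e
      · intro i hi
        exact h₁ i (by omega)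
      · intro q
        by_cases hq : q < a + k
        · obtain ⟨e⟩ := h₁' q hq
          exact isIso_app_of_iso τ ((singleFunctor A 0).mapIso e.symm) (hH q)
        · exact isIso_app_of_isZero τ ((singleFunctor A 0).map_isZero (h₁ q (by omega)))
    exact isIso_app_of_iso τ e₂ (isIso_app_obj₂ τ T hT hn₁ hn₃)

theorem isIso_app_of_isGE (hG₁ : LeftTExact G₁) (hG₂ : LeftTExact G₂)
    (X : DerivedCategory A) (n₀ : ℤ) (hX : X.IsGE n₀)
    (h : ∀ q, IsIso (τ.app ((singleFunctor A 0).obj ((homologyFunctor A q).obj X)))) :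
    IsIso (τ.app X) := by
  rw [DerivedCategory.isIso_iff]
  intro q
  -- truncate at `q`
  let T := (TStructure.t.triangleLEGT q).obj X
  have hT : T ∈ distTriang _ := TStructure.t.triangleLEGT_distinguished q X
  have h₃ : T.obj₃.IsGE (q + 1) := by
    change TStructure.t.IsGE ((TStructure.t.truncGT q).obj X) (q + 1)
    infer_instance
  have hι : ∀ i, i < q + 1 → IsIso ((homologyFunctor A i).map T.mor₁) :=
    fun i hi => isIso_homologyMap_mor₁ T hT (q + 1) h₃ i hi
  have hGE : T.obj₁.IsGE n₀ := by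
    change TStructure.t.IsGE ((TStructure.t.truncLE q).obj X) n₀
    infer_instance
  have hLE : T.obj₁.IsLE q := by
    change TStructure.t.IsLE ((TStructure.t.truncLE q).obj X) q
    infer_instance
  have hτ₁ : IsIso (τ.app T.obj₁) := by
    obtain ⟨k, hk⟩ : ∃ k : ℕ, q ≤ n₀ - 1 + k := ⟨(q - n₀ + 1).toNat, by omega⟩
    apply isIso_app_of_bounded τ n₀ k T.obj₁ hGE
    · intro i hi
      exact T.obj₁.isZero_of_isLE q i (by omega)
    · intro i
      by_cases hi : i < q + 1
      · have := hι i hi
        exact isIso_app_of_iso τ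
          ((singleFunctor A 0).mapIso (asIso ((homologyFunctor A i).map T.mor₁)).symm) (h i)
      · exact isIso_app_of_isZero τ
          ((singleFunctor A 0).map_isZero (T.obj₁.isZero_of_isLE q i (by omega)))
  have hG₁T := isIso_homologyMap_mor₁ (G₁.mapTriangle.obj T) (G₁.map_distinguished T hT) (q + 1)
    (hG₁ _ _ h₃) q (by omega)
  have hG₂T := isIso_homologyMap_mor₁ (G₂.mapTriangle.obj T) (G₂.map_distinguished T hT) (q + 1)
    (hG₂ _ _ h₃) q (by omega)
  change IsIso ((homologyFunctor A q).map (G₁.map T.mor₁)) at hG₁T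
  change IsIso ((homologyFunctor A q).map (G₂.map T.mor₁)) at hG₂T
  have hsq : (homologyFunctor A q).map (G₁.map T.mor₁) ≫ (homologyFunctor A q).map (τ.app X) =
      (homologyFunctor A q).map (τ.app T.obj₁) ≫ (homologyFunctor A q).map (G₂.map T.mor₁) := by
    rw [← Functor.map_comp, ← Functor.map_comp]
    congr 1
    exact τ.naturality T.mor₁
  have hc : IsIso ((homologyFunctor A q).map (τ.app T.obj₁)) := inferInstance
  exact @isIso_of_square _ _ _ _ _ _ _ _ _ _ hsq hG₁T hc hG₂T

end Main

end Groth.Agent.Lib.Helper2.TExactIso
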