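import Groth.Agent.Lib.Helper2.TExact.WeakSerre

/-!
# `f^* : D^+_{A'} → D^+_A` with quasi-inverse `Rf_*`
-/

namespace Groth.Agent.Lib.Helper2.TExactIso

open CategoryTheory Limits Pretriangulated DerivedCategory

universe w₁ w₂ v₁ v₂ u₁ u₂

variable {A : Type u₁} [Category.{v₁} A] [Abelian A] [HasDerivedCategory.{w₁} A]
  {B : Type u₂} [Category.{v₂} B] [Abelian B] [HasDerivedCategory.{w₂} B]
  {Φ : B ⥤ A} [Φ.Additive] [PreservesFiniteLimits Φ] [PreservesFiniteColimits Φ]
  {R : DerivedCategory A ⥤ DerivedCategory B} (adj : Φ.mapDerivedCategory ⊣ R)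
  (P : ObjectProperty A) [WSerre.IsWeakSerre P] (P' : ObjectProperty B) [WSerre.IsWeakSerre P']

include adj in
lemma isIso_counit_app_map_of_isIso_unit (Z : DerivedCategory B) (h : IsIso (adj.unit.app Z)) :
    IsIso (adj.counit.app (Φ.mapDerivedCategory.obj Z)) := by
  have h1 := adj.left_triangle_components Z
  haveI : IsIso (Φ.mapDerivedCategory.map (adj.unit.app Z) ≫
      adj.counit.app (Φ.mapDerivedCategory.obj Z)) := by rw [h1]; exact IsIso.id _
  exact IsIso.of_isIso_comp_left (Φ.mapDerivedCategory.map (adj.unit.app Z)) _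

/-- `F[0] ≅ f^*(F'[0])` when `F ≅ f^* F'`. -/
noncomputable def singleIsoMapSingle {F : A} {F' : B} (e : Φ.obj F' ≅ F) :
    (singleFunctor A 0).obj F ≅ Φ.mapDerivedCategory.obj ((singleFunctor B 0).obj F') :=
  (singleFunctor A 0).mapIso e.symm ≪≫ ((Φ.mapDerivedCategorySingleFunctor 0).app F').symm

theorem unit_part (h2a : ∀ F' : B, P' F' → P (Φ.obj F'))
    (h3 : ∀ F' : B, P' F' → IsIso (adj.unit.app ((singleFunctor B 0).obj F')))
    (Y : DerivedCategory B) (hY : WSerre.cohInPlus P' Y) :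
    WSerre.cohInPlus P (Φ.mapDerivedCategory.obj Y) ∧ IsIso (adj.unit.app Y) := by
  obtain ⟨hcoh, n, hn⟩ := hY
  refine ⟨⟨fun q => ?_, n, isGE_mapDerivedCategory_obj Φ Y n hn⟩, ?_⟩
  · exact P.prop_of_iso (mapDerivedCategoryHomologyIso Φ Y q).symm (h2a _ (hcoh q))
  · exact isIso_unit_app_of_isGE adj Y n hn (fun q => h3 _ (hcoh q))

theorem counit_part
    (h2c : ∀ F : A, P F → ∃ F' : B, P' F' ∧ Nonempty (Φ.obj F' ≅ F))
    (h3 : ∀ F' : B, P' F' → IsIso (adj.unit.app ((singleFunctor B 0).obj F')))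
    (X : DerivedCategory A) (hX : WSerre.cohInPlus P X) :
    WSerre.cohInPlus P' (R.obj X) ∧ IsIso (adj.counit.app X) := by
  obtain ⟨hcoh, n, hn⟩ := hX
  letI := adj.rightAdjointCommShift ℤ
  haveI := adj.commShift_of_leftAdjoint ℤ
  haveI : R.IsTriangulated := adj.isTriangulated_rightAdjoint
  refine ⟨⟨fun q => ?_, n, isGE_rightAdjoint_obj adj X n hn⟩, ?_⟩
  · -- cohomology of `R X`
    have hsingle : ∀ F : A, P F → ∀ j : ℤ,
        P' ((homologyFunctor B j).obj (R.obj ((singleFunctor A 0).obj F))) := by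
      intro F hF j
      obtain ⟨F', hF', ⟨e⟩⟩ := h2c F hF
      haveI := h3 F' hF'
      let ι : R.obj ((singleFunctor A 0).obj F) ≅ (singleFunctor B 0).obj F' :=
        R.mapIso (singleIsoMapSingle e) ≪≫ (asIso (adj.unit.app ((singleFunctor B 0).obj F'))).symm
      refine P'.prop_of_iso ((homologyFunctor B j).mapIso ι).symm ?_
      by_cases hj : j = 0
      · subst hj
        exact P'.prop_of_iso ((singleFunctorCompHomologyFunctorIso B 0).app F').symm hF'
      · rcases lt_or_gt_of_ne hj with hj | hj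
        · exact P'.prop_of_isZero (((singleFunctor B 0).obj F').isZero_of_isGE 0 j hj)
        · exact P'.prop_of_isZero (((singleFunctor B 0).obj F').isZero_of_isLE 0 j hj)
    have hdev := isDevissable_cohIn_map R P'
    have htr := hdev.truncLE X n hn (fun i => hsingle _ (hcoh i)) q
    haveI := isIso_homologyMap_map_truncLEι R (fun X n hX => isGE_rightAdjoint_obj adj X n hX) X q
    exact P'.prop_of_iso
      (asIso ((homologyFunctor B q).map (R.map ((TStructure.t.truncLEι q).app X)))) (htr q)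
  · refine isIso_counit_app_of_isGE adj X n hn (fun q => ?_)
    obtain ⟨F', hF', ⟨e⟩⟩ := h2c _ (hcoh q)
    exact isIso_app_of_iso adj.counit (singleIsoMapSingle e).symm
      (isIso_counit_app_map_of_isIso_unit adj _ (h3 F' hF'))

end Groth.Agent.Lib.Helper2.TExactIso
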